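import Cfsg.Agent.Lib.AltSections.Five.Inj

/-!
# Modules over the field with five elements for `S₁₀`

The dimensions of the fixed spaces of thirteen subgroups of order prime to five satisfy one linear
relation, by which a module without vectors fixed by non-solvable subgroups is zero.
-/

set_option autoImplicit false

namespace Cfsg.Agent.AltSections.Five

open Matrix Cfsg.Agent.AltSections.Code Cfsg.Agent.AltSections.Cert Cfsg.Agent.AltSections.CertFive
open Cfsg.Agent.AltSections.LiftTrace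

variable {m : ℕ} [Fact (Nat.Prime 5)] {ρ : Equiv.Perm (Fin 10) →* Matrix (Fin m) (Fin m) (ZMod 5)}

/-- The trace at a representative. -/
noncomputable def T (ρ : Equiv.Perm (Fin 10) →* Matrix (Fin m) (Fin m) (ZMod 5)) (k : ℕ) [NeZero k]
    (t : ℕ) : ZMod (5 ^ k) := tau ρ k (toPerm 10 (reps.getD t 0))

theorem form {D : FData} (k : ℕ) [NeZero k] (hD : D.check 10 5 reps = true) {l : List ℕ}
    (hl : D.counts reps.length = l) :
    (D.S.N : ZMod (5 ^ k)) *
        (Module.finrank (ZMod 5) (fixedSub ρ (span 10 D.S.gens)) : ZMod (5 ^ k)) =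
      ((l.getD 0 0 : ℕ) : ZMod (5 ^ k)) * T ρ k 0 + ((l.getD 1 0 : ℕ) : ZMod (5 ^ k)) * T ρ k 1 +
      ((l.getD 2 0 : ℕ) : ZMod (5 ^ k)) * T ρ k 2 + ((l.getD 3 0 : ℕ) : ZMod (5 ^ k)) * T ρ k 3 +
      ((l.getD 4 0 : ℕ) : ZMod (5 ^ k)) * T ρ k 4 + ((l.getD 5 0 : ℕ) : ZMod (5 ^ k)) * T ρ k 5 +
      ((l.getD 6 0 : ℕ) : ZMod (5 ^ k)) * T ρ k 6 + ((l.getD 7 0 : ℕ) : ZMod (5 ^ k)) * T ρ k 7 +
      ((l.getD 8 0 : ℕ) : ZMod (5 ^ k)) * T ρ k 8 + ((l.getD 9 0 : ℕ) : ZMod (5 ^ k)) * T ρ k 9 +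
      ((l.getD 10 0 : ℕ) : ZMod (5 ^ k)) * T ρ k 10 := by
  subst hl
  have := order_mul_finrank (k := k) ρ hD
  rw [this, Fin.sum_univ_eq_sum_range (fun t => (((D.counts reps.length).getD t 0 : ℕ) : ZMod (5 ^ k)) *
      tau ρ k (toPerm 10 (reps.getD t 0))) reps.length]
  generalize D.counts reps.length = l
  rw [show reps.length = 11 from rfl]
  simp only [Finset.sum_range_succ, Finset.sum_range_zero, zero_add]
  rfl

theorem finrank_zero (h : NoFix ρ) {l : List ℕ} (hl : ¬ Group.IsSolvable (span 10 l)) :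
    Module.finrank (ZMod 5) (fixedSub ρ (span 10 l)) = 0 := by
  have : fixedSub ρ (span 10 l) = ⊥ :=
    (Submodule.eq_bot_iff _).2 fun v hv => h.zero hl v hv
  rw [this, finrank_bot]

theorem finrank_int_le (h : NoFix ρ) :
    Module.finrank (ZMod 5) (fixedSub ρ (span 10 Sint.S.gens)) ≤
      Module.finrank (ZMod 5) (fixedSub ρ (span 10 Tint.S.gens)) := by
  rw [← int_S, ← int_T]
  exact finrank_le_of_checkInj int_check fun F hF => by
    rw [List.mem_singleton] at hF; subst hF; exact h.zero int_not_solvable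

theorem finrank_tra_le (h : NoFix ρ) :
    Module.finrank (ZMod 5) (fixedSub ρ (span 10 Stra.S.gens)) ≤
      Module.finrank (ZMod 5) (fixedSub ρ (span 10 Ttra.S.gens)) := by
  rw [← tra_S, ← tra_T]
  exact finrank_le_of_checkInj tra_check fun F hF => by
    rw [List.mem_singleton] at hF; subst hF; exact h.zero tra_not_solvable

theorem dim_eq_zero (h : NoFix ρ) : m = 0 := by
  set k := m + 8 with hk
  haveI : NeZero k := ⟨by omega⟩
  have t0 : T ρ k 0 = (m : ZMod (5 ^ k)) := by
    rw [T, eqOne_spec (c := reps.getD 0 0) (by decide +kernel), tau_one]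
  have e0 := form (ρ := ρ) k E0_check E0_counts
  have e1 := form (ρ := ρ) k E1_check E1_counts
  have e2 := form (ρ := ρ) k E2_check E2_counts
  have e3 := form (ρ := ρ) k E3_check E3_counts
  have e4 := form (ρ := ρ) k E4_check E4_counts
  have q5 := form (ρ := ρ) k Q5_check Q5_counts
  have q6 := form (ρ := ρ) k Q6_check Q6_counts
  have q7 := form (ρ := ρ) k Q7_check Q7_counts
  have q8 := form (ρ := ρ) k Q8_check Q8_counts
  have si := form (ρ := ρ) k Sint_check Sint_counts
  have ti := form (ρ := ρ) k Tint_check Tint_counts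
  have st := form (ρ := ρ) k Stra_check Stra_counts
  have tt := form (ρ := ρ) k Ttra_check Ttra_counts
  rw [finrank_zero h E0_not_solvable] at e0
  rw [finrank_zero h E1_not_solvable] at e1
  rw [finrank_zero h E2_not_solvable] at e2
  rw [finrank_zero h E3_not_solvable] at e3
  rw [finrank_zero h E4_not_solvable] at e4
  obtain ⟨di, hdi⟩ := Nat.exists_eq_add_of_le (finrank_int_le h)
  obtain ⟨dt, hdt⟩ := Nat.exists_eq_add_of_le (finrank_tra_le h)
  set d5 := Module.finrank (ZMod 5) (fixedSub ρ (span 10 Q5.S.gens))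
  set d6 := Module.finrank (ZMod 5) (fixedSub ρ (span 10 Q6.S.gens))
  set d7 := Module.finrank (ZMod 5) (fixedSub ρ (span 10 Q7.S.gens))
  set d8 := Module.finrank (ZMod 5) (fixedSub ρ (span 10 Q8.S.gens))
  have hle : ∀ W : Submodule (ZMod 5) (Fin m → ZMod 5), Module.finrank (ZMod 5) W ≤ m := fun W =>
    (Submodule.finrank_le W).trans (le_of_eq (Module.finrank_fin_fun _))
  rw [hdi] at ti
  rw [hdt] at tt
  simp only [E0, E1, E2, E3, E4, Q5, Q6, Q7, Q8, Sint, Tint, Stra, Ttra, List.getD_cons_zero,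
    List.getD_cons_succ, Nat.cast_ofNat, Nat.cast_zero, Nat.cast_one, Nat.cast_add, zero_mul,
    one_mul, add_zero, mul_zero, t0] at e0 e1 e2 e3 e4 q5 q6 q7 q8 si ti st tt
  set X := 440 * d5 + 198 * d6 + 276 * d7 + 85 * d8 + 138 * di + 940 * dt + m with hX
  have hXR : (12096 : ZMod (5 ^ k)) * (X : ZMod (5 ^ k)) = 0 := by
    rw [hX]
    push_cast
    linear_combination (-4480) * e0 + (-6372) * e1 + 13440 * e2 + 15552 * e3 + (-36576) * e4 +
      31680 * q5 + 24948 * q6 + 92736 * q7 + 38080 * q8 + (-69552) * si + 46368 * ti +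
      (-473760) * st + 315840 * tt
  have hu : IsUnit (12096 : ZMod (5 ^ k)) := by
    exact_mod_cast isUnit_natCast (p := 5) (k := k) (o := 12096) (by norm_num)
  have h0 : (X : ZMod (5 ^ k)) = 0 := hu.mul_right_eq_zero.1 hXR
  rw [ZMod.natCast_eq_zero_iff] at h0
  have hlt : X < 5 ^ k := by
    have h1 : d5 ≤ m := hle _
    have h2 : d6 ≤ m := hle _
    have h3 : d7 ≤ m := hle _
    have h4 : d8 ≤ m := hle _
    have h5 : di ≤ m := by have := hle (fixedSub ρ (span 10 Tint.S.gens)); omega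
    have h6 : dt ≤ m := by have := hle (fixedSub ρ (span 10 Ttra.S.gens)); omega
    have h7 : m < 5 ^ m := Nat.lt_pow_self (by norm_num)
    rw [hk, pow_add]
    norm_num
    omega
  have := Nat.eq_zero_of_dvd_of_lt h0 hlt
  omega

end Cfsg.Agent.AltSections.Five
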